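import Cfsg.Agent.SmallSimple.SylowCheck

/-!
# Sylow 17- and 19-normalisers in a simple group of order 50232960

Hypotheses: involution centralisers of order 1920, no element of order 16, and an element of
order 19 conjugate to its fourth power.
-/

set_option autoImplicit false
set_option linter.style.haveILetI false
set_option linter.unusedSectionVars false

namespace CfsgLib.J3Sylow

open Subgroup CfsgLib.SylowCheck

/-- The divisors of 50232960. -/
def divs : List ℕ :=
  (List.range 8).flatMap fun a => (List.range 6).flatMap fun b => [1, 5].flatMap fun c =>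
    [1, 17].flatMap fun d => [1, 19].map fun e => 2 ^ a * 3 ^ b * c * d * e

theorem mem_divs {k : ℕ} (h : k ∣ 50232960) : k ∈ divs := by
  rw [show (50232960 : ℕ) = 2 ^ 7 * 3 ^ 5 * 5 * 17 * 19 by norm_num] at h
  obtain ⟨k4, e, h4, he, rfl⟩ := Nat.dvd_mul.1 h
  obtain ⟨k3, d, h3, hd, rfl⟩ := Nat.dvd_mul.1 h4
  obtain ⟨k2, c, h2, hc, rfl⟩ := Nat.dvd_mul.1 h3
  obtain ⟨a', b', ha, hb, rfl⟩ := Nat.dvd_mul.1 h2
  obtain ⟨a, ha7, rfl⟩ := (Nat.dvd_prime_pow Nat.prime_two).1 ha
  obtain ⟨b, hb5, rfl⟩ := (Nat.dvd_prime_pow Nat.prime_three).1 hb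
  simp only [divs, List.mem_flatMap, List.mem_map, List.mem_range, List.mem_cons, List.not_mem_nil,
    or_false]
  exact ⟨a, by omega, b, by omega, c, (Nat.dvd_prime (by norm_num)).1 hc, d,
    (Nat.dvd_prime (by norm_num)).1 hd, e, (Nat.dvd_prime (by norm_num)).1 he, rfl⟩

/-- Number of Sylow 17-subgroups and index of the Sylow subgroup in its centraliser. -/
def cases17 : List (ℕ × ℕ) := [(369360, 1), (38880, 19), (20520, 9), (2160, 171), (120, 1539)]

/-- The same for 19. -/
def cases19 : List (ℕ × ℕ) := [(293760, 3), (293760, 1), (1920, 459), (1920, 153)]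

theorem opts17 : ((opts divs 50232960 17).all fun x =>
    x.2.2 % 2 == 0 || cases17.contains (x.2.1, x.2.2)) = true := by decide +kernel

theorem opts19 : ((opts divs 50232960 19).all fun x =>
    x.2.2 % 2 == 0 || cases19.contains (x.2.1, x.2.2)) = true := by decide +kernel

section General

variable {G : Type*} [Group G] [Finite G]

/-- Modulo its kernel the action of a normaliser on a subgroup of prime order is cyclic. -/
theorem isCyclic_range {p : ℕ} [hp : Fact p.Prime] (X : Subgroup G) (hX : Nat.card X = p) :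
    IsCyclic X.normalizerMonoidHom.range := by
  haveI : IsCyclic X := isCyclic_of_prime_card hX
  haveI : Fact (Nat.card X).Prime := ⟨hX ▸ hp.out⟩
  haveI : IsCyclic (ZMod (Nat.card X))ˣ := ZMod.isCyclic_units_prime Fact.out
  haveI : IsCyclic (MulAut X) :=
    isCyclic_of_surjective (IsCyclic.mulAutMulEquiv X).symm.toMonoidHom
      (IsCyclic.mulAutMulEquiv X).symm.surjective
  infer_instance

/-- The conclusion about a self-centralising subgroup of prime order. -/
theorem quotient_facts {p : ℕ} [hp : Fact p.Prime] {t : ℕ} (X : Subgroup G) (hX : Nat.card X = p)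
    (hC : Nat.card (centralizer (X : Set G)) = p)
    (hN : Nat.card (normalizer (X : Set G)) = p * t) :
    centralizer (X : Set G) = X ∧
      ∃ h : (X.subgroupOf (normalizer (X : Set G))).Normal,
        IsCyclic (↥(normalizer (X : Set G)) ⧸ X.subgroupOf _) ∧
        Nat.card (↥(normalizer (X : Set G)) ⧸ X.subgroupOf _) = t := by
  have hle : X ≤ centralizer (X : Set G) := by
    haveI : IsCyclic X := isCyclic_of_prime_card hX
    exact fun a ha => mem_centralizer_iff.2 fun b hb => setLike_mul_comm (S := Subgroup G) hb ha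
  have heq : centralizer (X : Set G) = X :=
    (eq_of_le_of_card_ge hle (by rw [hC, hX])).symm
  refine ⟨heq, inferInstance, ?_, ?_⟩
  · have hker : X.normalizerMonoidHom.ker = X.subgroupOf (normalizer (X : Set G)) := by
      rw [normalizerMonoidHom_ker, heq]
    haveI := isCyclic_range X hX
    exact isCyclic_of_surjective
      ((QuotientGroup.quotientMulEquivOfEq hker.symm).trans
        (QuotientGroup.quotientKerEquivRange X.normalizerMonoidHom)).symm.toMonoidHom
      (MulEquiv.surjective _)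
  · have h := card_eq_card_quotient_mul_card_subgroup (X.subgroupOf (normalizer (X : Set G)))
    rw [Nat.card_congr (subgroupOfEquivOfLe le_normalizer).toEquiv, hX, hN] at h
    exact Nat.eq_of_mul_eq_mul_left hp.out.pos (by rw [h, mul_comm])

end General

variable {G : Type*} [Group G] [Finite G] [IsSimpleGroup G]

/-- The hypotheses. -/
structure Hyp (G : Type*) [Group G] : Prop where
  card : Nat.card G = 50232960
  invol : ∀ u : G, orderOf u = 2 → Nat.card (centralizer ({u} : Set G)) = 1920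
  no_sixteen : ∀ g : G, orderOf g ≠ 16
  witness : ∃ x g : G, orderOf x = 19 ∧ g * x * g⁻¹ = x ^ 4

theorem not_comm (h : Hyp G) : ¬ IsMulCommutative G := by
  intro hc
  haveI := hc
  obtain ⟨g, hg⟩ := exists_prime_orderOf_dvd_card' (G := G) 17 (hp := ⟨by norm_num⟩)
    (by rw [h.card]; norm_num)
  rcases (Subgroup.zpowers g).normal_of_isMulCommutative.eq_bot_or_eq_top with hb | ht
  · rw [zpowers_eq_bot] at hb
    rw [hb, orderOf_one] at hg
    norm_num at hg
  · have := congrArg (fun K : Subgroup G => Nat.card K) ht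
    rw [card_top, Nat.card_zpowers, hg, h.card] at this
    norm_num at this

/-- Centralisers of subgroups of order 17 or 19 have odd order. -/
theorem odd_centralizer (h : Hyp G) {p : ℕ} (hp : p = 17 ∨ p = 19) (Q : Subgroup G)
    (hQ : Nat.card Q = p) : ¬ 2 ∣ Nat.card (centralizer (Q : Set G)) := by
  intro h2
  haveI : Fact (Nat.Prime 2) := ⟨Nat.prime_two⟩
  obtain ⟨⟨u, hu⟩, hu2⟩ := exists_prime_orderOf_dvd_card' (G := centralizer (Q : Set G)) 2 h2
  rw [orderOf_mk] at hu2
  have hle : Q ≤ centralizer ({u} : Set G) := fun a ha =>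
    mem_centralizer_singleton_iff.2 (mem_centralizer_iff.1 hu a ha)
  have := card_dvd_of_le hle
  rw [hQ, h.invol u hu2] at this
  rcases hp with rfl | rfl <;> norm_num at this

/-- The data for a Sylow subgroup. -/
theorem exists_case (h : Hyp G) {p : ℕ} [Fact p.Prime] (hp : p = 17 ∨ p = 19)
    {L : List (ℕ × ℕ)}
    (hL : ((opts divs 50232960 p).all fun x => x.2.2 % 2 == 0 || L.contains (x.2.1, x.2.2)) = true) :
    ∃ n c : ℕ, (n, c) ∈ L ∧ ∀ Q : Sylow p G, Nat.card (Q : Subgroup G) = p ∧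
      Nat.card (centralizer ((Q : Subgroup G) : Set G)) = p * c ∧
      n * Nat.card (normalizer ((Q : Subgroup G) : Set G)) = 50232960 := by
  have hdiv : p ∣ Nat.card G ∧ ¬ p ^ 2 ∣ Nat.card G := by
    rw [h.card]; rcases hp with rfl | rfl <;> norm_num
  obtain ⟨x, hx, hR, hxp⟩ := exists_real (not_comm h) divs (fun k hk => mem_divs (h.card ▸ hk))
    (p := p) Fact.out hdiv.1 hdiv.2
  obtain ⟨p', n, c⟩ := x
  obtain rfl : p' = p := hxp
  rw [h.card] at hx
  have hall := List.all_eq_true.1 hL _ hx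
  simp only [Bool.or_eq_true, beq_iff_eq, List.contains_iff_mem] at hall
  obtain ⟨-, -, hn, hQ⟩ := hR
  simp only at hn hQ
  refine ⟨n, c, hall.resolve_left fun hc => ?_, fun Q => ⟨(hQ Q).1, (hQ Q).2, ?_⟩⟩
  · obtain ⟨Q⟩ : Nonempty (Sylow p' G) := inferInstance
    refine odd_centralizer h hp _ (hQ Q).1 ?_
    rw [(hQ Q).2]
    exact Dvd.dvd.mul_left (Nat.dvd_of_mod_eq_zero hc) _
  · rw [← hn, CfsgLib.SmallSimple.card_sylow_mul Q, h.card]

theorem card_le_eq {N n : ℕ} (k : ℕ) (hn : 0 < n) (h : n * N = 50232960) (hk : n * k = 50232960) :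
    N = k := Nat.eq_of_mul_eq_mul_left hn (h.trans hk.symm)

theorem exists_sylow_eq {p : ℕ} [Fact p.Prime]
    (hS : ∀ Q : Sylow p G, Nat.card (Q : Subgroup G) = p)
    (X : Subgroup G) (hX : Nat.card X = p) : ∃ Q : Sylow p G, (Q : Subgroup G) = X := by
  obtain ⟨Q, hQ⟩ := (IsPGroup.of_card (n := 1) (G := X) (by rw [hX, pow_one])).exists_le_sylow
  exact ⟨Q, (eq_of_le_of_card_ge hQ (by rw [hS Q, hX])).symm⟩

/-- Normalisers of subgroups of order 19 have odd order. -/
theorem odd_normalizer (h : Hyp G) (X : Subgroup G) (hX : Nat.card X = 19) :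
    Odd (Nat.card (normalizer (X : Set G))) := by
  haveI : Fact (Nat.Prime 19) := ⟨by norm_num⟩
  obtain ⟨n, c, hnc, hQ⟩ := exists_case h (Or.inr rfl) opts19
  obtain ⟨Q, rfl⟩ := exists_sylow_eq (fun Q => (hQ Q).1) X hX
  have hN := (hQ Q).2.2
  simp only [cases19, List.mem_cons, Prod.mk.injEq, List.not_mem_nil, or_false] at hnc
  rcases hnc with ⟨rfl, -⟩ | ⟨rfl, -⟩ | ⟨rfl, -⟩ | ⟨rfl, -⟩
  · rw [card_le_eq 171 (by norm_num) hN (by norm_num)]; decide
  · rw [card_le_eq 171 (by norm_num) hN (by norm_num)]; decide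
  · rw [card_le_eq 26163 (by norm_num) hN (by norm_num)]; decide
  · rw [card_le_eq 26163 (by norm_num) hN (by norm_num)]; decide

/-- Elements of orders 17 and 19 do not commute. -/
theorem not_dvd_nineteen (h : Hyp G) (Y : Subgroup G) (hY : Nat.card Y = 17)
    (h2 : 2 ∣ Nat.card (normalizer (Y : Set G))) :
    ¬ 19 ∣ Nat.card (centralizer (Y : Set G)) := by
  intro h19
  classical
  haveI : Fact (Nat.Prime 19) := ⟨by norm_num⟩
  haveI : Fact (Nat.Prime 2) := ⟨Nat.prime_two⟩
  set C := centralizer (Y : Set G) with hCdef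
  set N := normalizer (Y : Set G) with hNdef
  obtain ⟨u, hu⟩ := exists_prime_orderOf_dvd_card' (G := N) 2 h2
  obtain ⟨a, ha⟩ := exists_prime_orderOf_dvd_card' (G := C) 19 h19
  -- subgroups of order 19 of the centraliser are conjugate in it
  have hsyl : ∀ P : Sylow 19 C, Nat.card (P : Subgroup C) = 19 := by
    intro P
    obtain ⟨m, hm⟩ := h19
    have hm19 : ¬ 19 ∣ m := by
      rintro ⟨k, rfl⟩
      have h' : 19 ^ 2 ∣ 50232960 :=
        Dvd.dvd.trans ⟨k, by rw [hm]; ring⟩ (h.card ▸ card_subgroup_dvd_card C)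
      norm_num at h'
    rw [CfsgLib.SmallSimple.card_sylow_eq P (k := 1) (m := m) (by rw [pow_one]; exact hm) hm19,
      pow_one]
  -- the conjugate of `a` by `u`
  have huC : ∀ z : G, z ∈ C → (u : G) * z * (u : G)⁻¹ ∈ C := by
    intro z hz
    rw [hCdef, mem_centralizer_iff] at hz ⊢
    intro y hy
    have hy' : (u : G)⁻¹ * y * (u : G) ∈ Y := (mem_normalizer_iff''.1 u.2 y).1 hy
    calc y * ((u : G) * z * (u : G)⁻¹) = u * (((u : G)⁻¹ * y * u) * z) * (u : G)⁻¹ := by group
      _ = u * (z * ((u : G)⁻¹ * y * u)) * (u : G)⁻¹ := by rw [hz _ hy']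
      _ = u * z * (u : G)⁻¹ * y := by group
  set b : C := ⟨(u : G) * a * (u : G)⁻¹, huC _ a.2⟩
  have hb : orderOf b = 19 := by
    rw [← orderOf_coe b, show (b : G) = MulAut.conj (u : G) (a : G) from rfl,
      MulEquiv.orderOf_eq, orderOf_coe, ha]
  have hS : ∀ z : C, orderOf z = 19 → ∃ P : Sylow 19 C, (P : Subgroup C) = zpowers z := by
    intro z hz
    obtain ⟨P, hP⟩ := (IsPGroup.of_card (n := 1) (G := zpowers z)
      (by rw [Nat.card_zpowers, hz, pow_one])).exists_le_sylow
    exact ⟨P, (eq_of_le_of_card_ge hP (by rw [hsyl, Nat.card_zpowers, hz])).symm⟩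
  obtain ⟨P, hP⟩ := hS a ha
  obtain ⟨P', hP'⟩ := hS b hb
  obtain ⟨c, hc⟩ := MulAction.exists_smul_eq C P' P
  -- an element normalising `⟨a⟩`
  set g : G := (c : G) * u with hg
  have hga : g * a * g⁻¹ ∈ zpowers (a : G) := by
    have h1 : c * b * c⁻¹ ∈ (P : Subgroup C) := by
      rw [← hc, Sylow.coe_subgroup_smul, hP']
      exact ⟨b, mem_zpowers b, rfl⟩
    rw [hP, mem_zpowers_iff] at h1
    obtain ⟨i, hi⟩ := h1
    refine ⟨i, ?_⟩
    have := congrArg Subtype.val hi
    simp only [SubgroupClass.coe_zpow, coe_mul, coe_inv] at this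
    rw [show g * a * g⁻¹ = (c : G) * ((u : G) * a * (u : G)⁻¹) * (c : G)⁻¹ by rw [hg]; group]
    exact this
  have hgN : g ∈ normalizer ((zpowers (a : G) : Subgroup G) : Set G) := by
    refine mem_normalizer_fintype fun z hz => ?_
    obtain ⟨i, rfl⟩ := hz
    show g * (a : G) ^ i * g⁻¹ ∈ zpowers (a : G)
    rw [← conj_zpow]
    exact zpow_mem hga i
  have hodd : Odd (orderOf g) := by
    have h1 : orderOf g ∣ Nat.card (normalizer ((zpowers (a : G) : Subgroup G) : Set G)) :=
      Subgroup.orderOf_dvd_natCard _ hgN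
    exact (odd_normalizer h _ (by rw [Nat.card_zpowers, orderOf_coe, ha])).of_dvd_nat h1
  have hcN : (c : G) ∈ N := centralizer_le_normalizer _ c.2
  set φ := Y.normalizerMonoidHom with hφ
  have hker : ∀ z : N, φ z = 1 ↔ (z : G) ∈ C := fun z => by
    rw [← MonoidHom.mem_ker, normalizerMonoidHom_ker, mem_subgroupOf]
  have hφc : φ ⟨c, hcN⟩ = 1 := (hker _).2 c.2
  have hφg : φ (⟨c, hcN⟩ * u) = φ u := by rw [map_mul, hφc, one_mul]
  have ho : orderOf (φ u) ∣ orderOf g := by
    rw [← hφg]
    refine (orderOf_map_dvd φ _).trans ?_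
    rw [← orderOf_coe]
    exact dvd_rfl
  have ho2 : orderOf (φ u) ∣ 2 := hu ▸ orderOf_map_dvd φ u
  have hu1 : orderOf (φ u) = 1 := by
    refine Nat.eq_one_of_dvd_coprimes ?_ ho ho2
    exact (Nat.coprime_two_right.2 hodd)
  rw [orderOf_eq_one_iff, hker] at hu1
  refine odd_centralizer h (Or.inl rfl) Y hY ?_
  have := Subgroup.orderOf_dvd_natCard C hu1
  rwa [orderOf_coe, hu] at this

theorem sylow_seventeen (h : Hyp G) (Y : Sylow 17 G) :
    centralizer ((Y : Subgroup G) : Set G) = Y ∧
      ∃ hn : ((Y : Subgroup G).subgroupOf (normalizer ((Y : Subgroup G) : Set G))).Normal,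
        IsCyclic (↥(normalizer ((Y : Subgroup G) : Set G)) ⧸ (Y : Subgroup G).subgroupOf _) ∧
        Nat.card (↥(normalizer ((Y : Subgroup G) : Set G)) ⧸ (Y : Subgroup G).subgroupOf _) = 8 := by
  haveI : Fact (Nat.Prime 17) := ⟨by norm_num⟩
  obtain ⟨n, c, hnc, hQ⟩ := exists_case h (Or.inl rfl) opts17
  obtain ⟨hY, hC, hN⟩ := hQ Y
  have key : ∀ k : ℕ, n * k = 50232960 → 0 < n →
      Nat.card (normalizer ((Y : Subgroup G) : Set G)) = k := fun k hk hn => card_le_eq k hn hN hk
  simp only [cases17, List.mem_cons, Prod.mk.injEq, List.not_mem_nil, or_false] at hnc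
  rcases hnc with ⟨rfl, rfl⟩ | ⟨rfl, rfl⟩ | ⟨rfl, rfl⟩ | ⟨rfl, rfl⟩ | ⟨rfl, rfl⟩
  · exact quotient_facts (Y : Subgroup G) hY (hC.trans (by norm_num))
      ((key 136 (by norm_num) (by norm_num)).trans (by norm_num))
  · exact absurd (hC ▸ (by norm_num : 19 ∣ 17 * 19)) (not_dvd_nineteen h Y hY
      (by rw [key 1292 (by norm_num) (by norm_num)]; norm_num))
  · exfalso
    set N := normalizer ((Y : Subgroup G) : Set G)
    set φ := (Y : Subgroup G).normalizerMonoidHom
    haveI := isCyclic_range (Y : Subgroup G) hY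
    obtain ⟨⟨_, w, rfl⟩, hw⟩ := IsCyclic.exists_generator (α := φ.range)
    have h1 : orderOf (φ w) = 16 := by
      rw [show φ w = ((φ.rangeRestrict w : φ.range) : MulAut (Y : Subgroup G)) from rfl, orderOf_coe]
      rw [show φ.rangeRestrict w = ⟨φ w, ⟨w, rfl⟩⟩ from rfl, orderOf_eq_card_of_forall_mem_zpowers hw]
      have h2 := card_eq_card_quotient_mul_card_subgroup φ.ker
      rw [Nat.card_congr (QuotientGroup.quotientKerEquivRange φ).toEquiv, normalizerMonoidHom_ker,
        Nat.card_congr (subgroupOfEquivOfLe (centralizer_le_normalizer _)).toEquiv, hC,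
        key 2448 (by norm_num) (by norm_num)] at h2
      exact Nat.eq_of_mul_eq_mul_right (by norm_num : 0 < 17 * 9) (h2.symm.trans (by norm_num))
    obtain ⟨m, hm⟩ : 16 ∣ orderOf (w : G) := by
      rw [orderOf_coe, ← h1]
      exact orderOf_map_dvd φ w
    have hpos : 0 < orderOf (w : G) := orderOf_pos _
    refine h.no_sixteen ((w : G) ^ m) ?_
    rw [orderOf_pow' _ (by rintro rfl; omega), hm, Nat.gcd_mul_left_left, Nat.mul_div_cancel _ (by
      rcases Nat.eq_zero_or_pos m with rfl | h0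
      · omega
      · exact h0)]
  · exact absurd (hC ▸ (by norm_num : 19 ∣ 17 * 171)) (not_dvd_nineteen h Y hY
      (by rw [key 23256 (by norm_num) (by norm_num)]; norm_num))
  · exact absurd (hC ▸ (by norm_num : 19 ∣ 17 * 1539)) (not_dvd_nineteen h Y hY
      (by rw [key 418608 (by norm_num) (by norm_num)]; norm_num))

theorem sylow_nineteen (h : Hyp G) (X : Sylow 19 G) :
    centralizer ((X : Subgroup G) : Set G) = X ∧
      ∃ hn : ((X : Subgroup G).subgroupOf (normalizer ((X : Subgroup G) : Set G))).Normal,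
        IsCyclic (↥(normalizer ((X : Subgroup G) : Set G)) ⧸ (X : Subgroup G).subgroupOf _) ∧
        Nat.card (↥(normalizer ((X : Subgroup G) : Set G)) ⧸ (X : Subgroup G).subgroupOf _) = 9 := by
  haveI : Fact (Nat.Prime 19) := ⟨by norm_num⟩
  haveI : Fact (Nat.Prime 17) := ⟨by norm_num⟩
  obtain ⟨n, c, hnc, hQ⟩ := exists_case h (Or.inr rfl) opts19
  obtain ⟨hX, hC, hN⟩ := hQ X
  -- no 17 in the centraliser
  have h17 : ¬ 17 ∣ c := by
    intro hd
    obtain ⟨⟨y, hy⟩, hy17⟩ := exists_prime_orderOf_dvd_card'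
      (G := centralizer ((X : Subgroup G) : Set G)) 17 (by rw [hC]; exact Dvd.dvd.mul_left hd _)
    rw [orderOf_mk] at hy17
    obtain ⟨n', c', hnc', hQ'⟩ := exists_case h (Or.inl rfl) opts17
    obtain ⟨Y, hY⟩ := exists_sylow_eq (fun Q => (hQ' Q).1) (zpowers y)
      (by rw [Nat.card_zpowers, hy17])
    refine not_dvd_nineteen h (Y : Subgroup G) (hQ' Y).1 ?_ ?_
    · have hN' := (hQ' Y).2.2
      simp only [cases17, List.mem_cons, Prod.mk.injEq, List.not_mem_nil, or_false] at hnc'
      rcases hnc' with ⟨rfl, -⟩ | ⟨rfl, -⟩ | ⟨rfl, -⟩ | ⟨rfl, -⟩ | ⟨rfl, -⟩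
      · rw [card_le_eq 136 (by norm_num) hN' (by norm_num)]; norm_num
      · rw [card_le_eq 1292 (by norm_num) hN' (by norm_num)]; norm_num
      · rw [card_le_eq 2448 (by norm_num) hN' (by norm_num)]; norm_num
      · rw [card_le_eq 23256 (by norm_num) hN' (by norm_num)]; norm_num
      · rw [card_le_eq 418608 (by norm_num) hN' (by norm_num)]; norm_num
    · have hle : (X : Subgroup G) ≤ centralizer ((Y : Subgroup G) : Set G) := by
        rw [hY, zpowers_eq_closure, centralizer_closure]
        intro a ha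
        exact mem_centralizer_singleton_iff.2 (mem_centralizer_iff.1 hy a ha)
      exact hX ▸ card_dvd_of_le hle
  -- the witness gives a quotient divisible by 9
  obtain ⟨x, g, hx, hg⟩ := h.witness
  obtain ⟨X', hX'⟩ := exists_sylow_eq (fun Q => (hQ Q).1) (zpowers x)
    (by rw [Nat.card_zpowers, hx])
  obtain ⟨hX'c, hC', hN'⟩ := hQ X'
  have hc9 : 9 * (19 * c) ∣ Nat.card (normalizer ((X' : Subgroup G) : Set G)) := by
    rw [← hC']
    have hgN : g ∈ normalizer ((X' : Subgroup G) : Set G) := by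
      classical
      rw [hX']
      refine mem_normalizer_fintype fun z hz => ?_
      obtain ⟨i, rfl⟩ := hz
      show g * x ^ i * g⁻¹ ∈ zpowers x
      rw [← conj_zpow, hg]
      exact zpow_mem (pow_mem (mem_zpowers x) 4) i
    set φ := (X' : Subgroup G).normalizerMonoidHom
    set γ := φ ⟨g, hgN⟩
    have hxX : x ∈ (X' : Subgroup G) := by rw [hX']; exact mem_zpowers x
    have hpow : ∀ i : ℕ, g ^ i * x * (g ^ i)⁻¹ = x ^ (4 ^ i) := by
      intro i
      induction i with
      | zero => simp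
      | succ i ih =>
        rw [pow_succ' g, show g * g ^ i * x * (g * g ^ i)⁻¹ = g * (g ^ i * x * (g ^ i)⁻¹) * g⁻¹ by
          group, ih, ← conj_pow, hg, ← pow_mul, pow_succ']
    have hval : ∀ i : ℕ, γ ^ i = 1 → 4 ^ i % 19 = 1 := by
      intro i hi
      rw [← map_pow] at hi
      have h1 := congrArg (fun f : MulAut (X' : Subgroup G) => ((f ⟨x, hxX⟩ : (X' : Subgroup G)) : G)) hi
      simp only [MulAut.one_apply] at h1
      have h2 : g ^ i * x * (g ^ i)⁻¹ = x := h1
      rw [hpow] at h2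
      have h3 : x ^ (4 ^ i) = x ^ 1 := by rw [pow_one]; exact h2
      rw [pow_inj_mod, hx] at h3
      exact h3
    have h9 : 9 ∣ orderOf γ := by
      have h1 := hval _ (pow_orderOf_eq_one γ)
      have h18 : orderOf γ ∣ 18 := by
        have := orderOf_dvd_natCard γ
        rw [IsCyclic.card_mulAut (G := (X' : Subgroup G)) (h := isCyclic_of_prime_card hX'c), hX'c,
          Nat.totient_prime (by norm_num)] at this
        exact this
      have hle := Nat.le_of_dvd (by norm_num) h18
      interval_cases (orderOf γ) <;> first | (norm_num; done) | (norm_num at h1)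
    have hi := card_eq_card_quotient_mul_card_subgroup φ.ker
    rw [Nat.card_congr (QuotientGroup.quotientKerEquivRange φ).toEquiv, normalizerMonoidHom_ker,
      Nat.card_congr (subgroupOfEquivOfLe (centralizer_le_normalizer _)).toEquiv] at hi
    rw [hi]
    refine Nat.mul_dvd_mul_right (h9.trans ?_) _
    exact Subgroup.orderOf_dvd_natCard φ.range ⟨_, rfl⟩
  simp only [cases19, List.mem_cons, Prod.mk.injEq, List.not_mem_nil, or_false] at hnc
  rcases hnc with ⟨rfl, rfl⟩ | ⟨rfl, rfl⟩ | ⟨rfl, rfl⟩ | ⟨rfl, rfl⟩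
  · rw [card_le_eq 171 (by norm_num) hN' (by norm_num)] at hc9
    norm_num at hc9
  · exact quotient_facts (X : Subgroup G) hX (hC.trans (by norm_num))
      ((card_le_eq 171 (by norm_num) hN (by norm_num)).trans (by norm_num))
  · norm_num at h17
  · norm_num at h17

end CfsgLib.J3Sylow
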