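import Cfsg.Agent.J3Local.Class

/-! An element of order 19 conjugate to its fourth power in the presented group `J₃`. -/

set_option autoImplicit false
set_option maxRecDepth 100000

namespace CfsgLib.J3Sylow

open CfsgLib.Coset CfsgLib.Coset.J3 CfsgLib.J3Local

/-- The element. -/
def xW : List Nat := [0, 1, 3, 2]

/-- The conjugator. -/
def gW19 : List Nat := [1, 0, 3, 2, 1, 2, 0, 3, 2, 1]

theorem wit_ok : sameW ((List.replicate 19 xW).flatten) [] = true ∧ sameW xW [] = false ∧
    sameW (gW19 ++ xW ++ gW19.reverse) ((List.replicate 4 xW).flatten) = true := by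
  decide +kernel

theorem ev_replicate (k : Nat) (w : List Nat) :
    ev Lp ((List.replicate k w).flatten) = ev Lp w ^ k := by
  induction k with
  | zero => simp
  | succ k ih => rw [List.replicate_succ, List.flatten_cons, ev_append, ih, pow_succ']

theorem exists_witness : ∃ x g : P, orderOf x = 19 ∧ g * x * g⁻¹ = x ^ 4 := by
  haveI : Fact (Nat.Prime 19) := ⟨by norm_num⟩
  refine ⟨ev Lp xW, ev Lp gW19, orderOf_eq_prime ?_ ?_, ?_⟩
  · rw [← ev_replicate, sameW_eq wit_ok.1, ev_nil]
  · intro h
    have h' := sameW_of_eq (v := xW) (w := []) (by decide +kernel) (by decide +kernel)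
      (by rw [h, ev_nil])
    rw [wit_ok.2.1] at h'
    exact Bool.false_ne_true h'
  · have h := sameW_eq wit_ok.2.2
    rw [ev_append, ev_append, ev_reverse, ev_replicate] at h
    exact h

end CfsgLib.J3Sylow
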