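import Cfsg.Agent.J3Sylow.Basic
import Cfsg.Agent.J3Sylow.Witness
import Cfsg.Agent.Solvable.PGroupBasic
import Cfsg.Prelude.Def_Transfer

/-! The hypotheses of `J3Sylow` for a group of `J₃`-type isomorphic to the presented group. -/

set_option autoImplicit false
set_option linter.style.haveILetI false
set_option linter.unusedSectionVars false

namespace CfsgLib.J3Sylow

open Subgroup

variable {G : Type*} [Group G] [Finite G]

theorem card_centralizer_conj {u t : G} (h : IsConj t u) :
    Nat.card (centralizer ({u} : Set G)) = Nat.card (centralizer ({t} : Set G)) := by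
  obtain ⟨g, rfl⟩ := isConj_iff.1 h
  refine (Nat.card_congr ((MulAut.conj g).toEquiv.subtypeEquiv fun z => ?_)).symm
  show z ∈ centralizer ({t} : Set G) ↔ MulAut.conj g z ∈ centralizer ({g * t * g⁻¹} : Set G)
  rw [mem_centralizer_singleton_iff, mem_centralizer_singleton_iff,
    show g * t * g⁻¹ = MulAut.conj g t from rfl, ← map_mul, ← map_mul,
    (MulAut.conj g).injective.eq_iff]

theorem sq_mem_frattini {P : Type*} [Group P] [Finite P] (hp : IsPGroup 2 P) (x : P) :
    x ^ 2 ∈ frattini P := by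
  haveI : Fact (Nat.Prime 2) := ⟨Nat.prime_two⟩
  exact (CfsgLib.PGroupBasic.commutator_pow_le_frattini hp).2 x

theorem card_A5 : Nat.card (alternatingGroup (Fin 5)) = 60 := by
  rw [nat_card_alternatingGroup, Nat.card_fin]; rfl

/-- In an extension of an extraspecial 2-group by `A₅` no element has order 16. -/
theorem orderOf_ne_sixteen {C : Type*} [Group C] [Finite C] (E A : Subgroup C) [E.Normal]
    (hE : Cfsg.IsExtraspecial 2 ↥E) (hEA : E.IsComplement' A)
    (eA : ↥A ≃* ↥(alternatingGroup (Fin 5))) (g : C) : orderOf g ≠ 16 := by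
  intro hg
  have key : ∀ a : alternatingGroup (Fin 5), a ^ 16 = 1 → a ^ 2 = 1 := by decide +kernel
  have hq : ∀ q : C ⧸ E, q ^ 16 = 1 → q ^ 2 = 1 := by
    intro q hq
    have e := (hEA.symm.QuotientMulEquiv).trans eA
    apply e.injective
    rw [map_pow, map_one]
    exact key _ (by rw [← map_pow, hq, map_one])
  have h2 : g ^ 2 ∈ E := (QuotientGroup.eq_one_iff _).1 (by
    rw [QuotientGroup.mk_pow]
    exact hq _ (by rw [← QuotientGroup.mk_pow, ← hg, pow_orderOf_eq_one, QuotientGroup.mk_one]))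
  obtain ⟨⟨hp, hf, -⟩, hz⟩ := hE
  haveI : Fact (Nat.Prime 2) := ⟨Nat.prime_two⟩
  have h4 : (⟨g ^ 2, h2⟩ : E) ^ 2 ∈ center E := hf ▸ sq_mem_frattini hp _
  have h5 : ((⟨⟨g ^ 2, h2⟩ ^ 2, h4⟩ : center E)) ^ 2 = 1 := by
    have h := pow_card_eq_one' (x := (⟨⟨g ^ 2, h2⟩ ^ 2, h4⟩ : center E))
    rwa [hz] at h
  have h6 : g ^ 8 = 1 := by
    have := congrArg (fun z : center E => (((z : E)) : C)) h5
    simp only [SubgroupClass.coe_pow, OneMemClass.coe_one] at this
    rwa [← pow_mul, ← pow_mul] at this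
  have := orderOf_dvd_of_pow_eq_one h6
  rw [hg] at this
  norm_num at this

theorem hyp_of_equiv (e : G ≃* CfsgLib.Coset.J3.P)
    (hone : ∀ x y : G, orderOf x = 2 → orderOf y = 2 → IsConj x y)
    (t : G) (ht : orderOf t = 2) (E A : Subgroup ↥(centralizer ({t} : Set G))) [E.Normal]
    (hE : Cfsg.IsExtraspecial 2 ↥E) (hE32 : Nat.card ↥E = 32) (hEA : E.IsComplement' A)
    (eA : ↥A ≃* ↥(alternatingGroup (Fin 5))) : Hyp G where
  card := (Nat.card_congr e.toEquiv).trans CfsgLib.J3Local.card_P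
  invol u hu := by
    rw [card_centralizer_conj (hone t u ht hu), ← hEA.card_mul_card, hE32, Nat.card_congr eA.toEquiv,
      card_A5]
  no_sixteen g hg := by
    have hu : orderOf (g ^ 8) = 2 := by
      rw [orderOf_pow' g (by norm_num), hg]; norm_num
    obtain ⟨c, hc⟩ := isConj_iff.1 (hone _ t hu ht)
    have hm : c * g * c⁻¹ ∈ centralizer ({t} : Set G) := by
      rw [mem_centralizer_singleton_iff, ← hc]
      group
    refine orderOf_ne_sixteen E A hE hEA eA ⟨_, hm⟩ ?_
    rw [orderOf_mk, show c * g * c⁻¹ = MulAut.conj c g from rfl, MulEquiv.orderOf_eq, hg]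
  witness := by
    obtain ⟨x, g, hx, hg⟩ := exists_witness
    refine ⟨e.symm x, e.symm g, by rw [MulEquiv.orderOf_eq, hx], ?_⟩
    rw [← map_mul, ← map_inv, ← map_mul, hg, map_pow]

/-- The Sylow statements for a group of `J₃`-type isomorphic to the presented group. -/
theorem sylow_facts_of_equiv [IsSimpleGroup G] (e : G ≃* CfsgLib.Coset.J3.P)
    (hone : ∀ x y : G, orderOf x = 2 → orderOf y = 2 → IsConj x y)
    (t : G) (ht : orderOf t = 2) (E A : Subgroup ↥(centralizer ({t} : Set G))) [E.Normal]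
    (hE : Cfsg.IsExtraspecial 2 ↥E) (hE32 : Nat.card ↥E = 32) (hEA : E.IsComplement' A)
    (eA : ↥A ≃* ↥(alternatingGroup (Fin 5))) :
    (∀ X : Sylow 19 G, centralizer ((X : Subgroup G) : Set G) = X ∧
        ∃ h : ((X : Subgroup G).subgroupOf (normalizer ((X : Subgroup G) : Set G))).Normal,
          IsCyclic (↥(normalizer ((X : Subgroup G) : Set G)) ⧸ (X : Subgroup G).subgroupOf _) ∧
          Nat.card (↥(normalizer ((X : Subgroup G) : Set G)) ⧸ (X : Subgroup G).subgroupOf _) = 9) ∧
    (∀ Y : Sylow 17 G, centralizer ((Y : Subgroup G) : Set G) = Y ∧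
        ∃ h : ((Y : Subgroup G).subgroupOf (normalizer ((Y : Subgroup G) : Set G))).Normal,
          IsCyclic (↥(normalizer ((Y : Subgroup G) : Set G)) ⧸ (Y : Subgroup G).subgroupOf _) ∧
          Nat.card (↥(normalizer ((Y : Subgroup G) : Set G)) ⧸ (Y : Subgroup G).subgroupOf _) = 8) :=
  have h := hyp_of_equiv e hone t ht E A hE hE32 hEA eA
  ⟨fun X => sylow_nineteen h X, fun Y => sylow_seventeen h Y⟩

end CfsgLib.J3Sylow
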